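import Mathlib

/-! Indices of lattices cut out by diagonal matrices and the coordinate sum. -/

set_option autoImplicit false

namespace CompLatIdxLib

open Finset

variable {n : ℕ}

/-- Scaling by `δ`. -/
def Dh (δ : Fin n → ℤ) : (Fin n → ℤ) →+ (Fin n → ℤ) :=
  (Matrix.mulVecLin (Matrix.diagonal δ)).toAddMonoidHom

theorem Dh_apply (δ x : Fin n → ℤ) (i : Fin n) : Dh δ x i = δ i * x i := Matrix.mulVec_diagonal δ x i

theorem index_range_Dh (δ : Fin n → ℤ) : ((Dh δ).range.index : ℤ) = |∏ i, δ i| := by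
  have h : (Dh δ).range = AddSubgroup.pi Set.univ fun i => AddSubgroup.zmultiples (δ i) := by
    ext y
    simp only [AddMonoidHom.mem_range, AddSubgroup.mem_pi, Set.mem_univ, forall_true_left,
      Int.mem_zmultiples_iff]
    constructor
    · rintro ⟨x, rfl⟩ i
      rw [Dh_apply]
      exact dvd_mul_right _ _
    · intro hy
      choose x hx using hy
      exact ⟨x, funext fun i => by rw [Dh_apply, hx i]⟩
  rw [h, AddSubgroup.index_pi, Nat.cast_prod, Finset.abs_prod]
  exact Finset.prod_congr rfl fun i _ => by rw [Int.index_zmultiples]; exact (Int.abs_eq_natAbs _).symm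

theorem exists_sum_eq_gcd (δ : Fin n → ℤ) : ∃ x : Fin n → ℤ, ∑ i, δ i * x i = univ.gcd δ := by
  have h : univ.gcd δ ∈ Ideal.span (Set.range δ) := by
    obtain ⟨g, hg⟩ := (IsPrincipalIdealRing.principal (Ideal.span (Set.range δ))).principal
    have hdvd : g ∣ univ.gcd δ := Finset.dvd_gcd fun i _ => by
      have : δ i ∈ Submodule.span ℤ {g} := hg ▸ Ideal.subset_span (Set.mem_range_self i)
      exact Ideal.mem_span_singleton.1 this
    rw [hg]
    exact Ideal.mem_span_singleton.2 hdvd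
  obtain ⟨x, hx⟩ := (Ideal.mem_span_range_iff_exists_fun).1 h
  exact ⟨x, by rw [← hx]; simp only [mul_comm]⟩

/-- For the kernel `K` of a surjection `S`, with `S ∘ D` of image `g ℤ`. -/
theorem key (δ : Fin n → ℤ) (hδ : ∀ i, δ i ≠ 0) (S : (Fin n → ℤ) →+ ℤ)
    (hS : Function.Surjective S) (hSD : ∀ x, S (Dh δ x) = ∑ i, δ i * x i) :
    ((Dh δ).range.relIndex S.ker : ℤ) * univ.gcd δ = |∏ i, δ i| := by
  have hsup : (Dh δ).range ⊔ S.ker = (AddSubgroup.zmultiples (univ.gcd δ)).comap S := by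
    apply le_antisymm
    · refine sup_le ?_ fun x hx => ?_
      · rintro _ ⟨x, rfl⟩
        rw [AddSubgroup.mem_comap, Int.mem_zmultiples_iff, hSD]
        exact Finset.dvd_sum fun i _ => (Finset.gcd_dvd (mem_univ i)).mul_right _
      · rw [AddSubgroup.mem_comap, show S x = 0 from hx]
        exact zero_mem _
    · intro x hx
      obtain ⟨c, hc⟩ := Int.mem_zmultiples_iff.1 hx
      obtain ⟨y, hy⟩ := exists_sum_eq_gcd δ
      rw [← add_sub_cancel (Dh δ (c • y)) x]
      refine AddSubgroup.add_mem_sup ⟨_, rfl⟩ ?_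
      show S _ = 0
      rw [map_sub, hc, map_zsmul, map_zsmul, hSD, hy, smul_eq_mul, mul_comm, sub_self]
  have h1 := AddSubgroup.relIndex_mul_index (le_sup_left : (Dh δ).range ≤ (Dh δ).range ⊔ S.ker)
  rw [AddSubgroup.relIndex_sup_left, hsup, AddSubgroup.index_comap_of_surjective _ hS,
    Int.index_zmultiples] at h1
  rw [← index_range_Dh, ← h1, Nat.cast_mul, Int.natAbs_of_nonneg]
  exact Int.nonneg_of_normalize_eq_self Finset.normalize_gcd

theorem Dh_injective (δ : Fin n → ℤ) (hδ : ∀ i, δ i ≠ 0) : Function.Injective (Dh δ) := fun x y h =>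
  funext fun i => mul_left_cancel₀ (hδ i) (by rw [← Dh_apply, ← Dh_apply, h])

/-- The first index formula. -/
theorem formula (δ : Fin n → ℤ) (hδ : ∀ i, δ i ≠ 0) (S : (Fin n → ℤ) →+ ℤ)
    (hS : Function.Surjective S) (hSD : ∀ x, S (Dh δ x) = ∑ i, δ i * x i)
    (R : AddSubgroup (Fin n → ℤ)) (hR : R.map (Dh δ) ≤ S.ker) :
    (R.relIndex (S.comp (Dh δ)).ker : ℤ) * |∏ i, δ i| = univ.gcd δ * ((R.map (Dh δ)).relIndex S.ker) := by
  have hle : R ≤ (S.comp (Dh δ)).ker := fun x hx => hR ⟨x, hx, rfl⟩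
  have hK : ((S.comp (Dh δ)).ker).map (Dh δ) = (Dh δ).range ⊓ S.ker := by
    ext y
    constructor
    · rintro ⟨x, hx, rfl⟩
      exact ⟨⟨x, rfl⟩, hx⟩
    · rintro ⟨⟨x, rfl⟩, hx⟩
      exact ⟨x, hx, rfl⟩
  rw [← key δ hδ S hS hSD, ← AddSubgroup.relIndex_map_map_of_injective R _ (Dh_injective δ hδ), hK,
    ← AddSubgroup.inf_relIndex_right (Dh δ).range S.ker,
    ← AddSubgroup.relIndex_mul_relIndex (R.map (Dh δ)) ((Dh δ).range ⊓ S.ker) S.ker
      (hK ▸ AddSubgroup.map_mono hle) inf_le_right]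
  push_cast
  ring

/-- The second index formula: images of sublattices containing the kernel line. -/
theorem formula_right (δ' : Fin n → ℤ) (g : ℤ) (hg : g ≠ 0) (w : Fin n → ℤ) (hw : ∀ i, δ' i = g * w i)
    (hδ' : ∀ i, δ' i ≠ 0) (i₀ : Fin n) (f : (Fin n → ℤ) →+ (Fin n → ℤ))
    (hker : f.ker = AddSubgroup.zmultiples w) :
    (((Dh δ').range.map f).relIndex f.range : ℤ) * |g| = |∏ i, δ' i| := by
  have hc : (AddSubgroup.zmultiples g).map (zmultiplesHom (Fin n → ℤ) w) =
      (Dh δ').range ⊓ AddSubgroup.zmultiples w := by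
    ext y
    constructor
    · rintro ⟨c, hc, rfl⟩
      obtain ⟨a, rfl⟩ := Int.mem_zmultiples_iff.1 hc
      refine ⟨⟨fun _ => a, funext fun i => ?_⟩, ⟨g * a, rfl⟩⟩
      simp [Dh_apply, hw]
      ring
    · rintro ⟨⟨z, hz⟩, ⟨c, rfl⟩⟩
      refine ⟨c, Int.mem_zmultiples_iff.2 ⟨z i₀, ?_⟩, rfl⟩
      have h := congrFun hz i₀
      simp [Dh_apply, hw] at h
      have hw0 : w i₀ ≠ 0 := fun e => hδ' i₀ (by rw [hw, e, mul_zero])
      exact mul_right_cancel₀ hw0 (by linear_combination -h)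
  have hi : ((Dh δ').range.relIndex f.ker : ℤ) = |g| := by
    rw [hker, ← AddSubgroup.inf_relIndex_right, ← hc, ← AddSubgroup.range_zmultiplesHom w,
      AddMonoidHom.range_eq_map, AddSubgroup.relIndex_map_map_of_injective, AddSubgroup.relIndex_top_right,
      Int.index_zmultiples, Int.abs_eq_natAbs]
    intro a b hab
    have hab' : a • w = b • w := hab
    have hw0 : w i₀ ≠ 0 := fun e => hδ' i₀ (by rw [hw, e, mul_zero])
    exact mul_right_cancel₀ hw0 (by simpa using congrFun hab' i₀)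
  have h1 := AddSubgroup.relIndex_mul_index (le_sup_left : (Dh δ').range ≤ (Dh δ').range ⊔ f.ker)
  rw [AddSubgroup.relIndex_sup_left] at h1
  have h2 : ((Dh δ').range.map f).relIndex f.range = ((Dh δ').range ⊔ f.ker).index := by
    rw [← AddSubgroup.comap_map_eq, AddSubgroup.index_comap]
  rw [h2, ← index_range_Dh, ← h1, Nat.cast_mul, hi, mul_comm]

end CompLatIdxLib
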