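import Groth.Agent.CompLatIdxLib.Basic
import Mathlib

set_option autoImplicit false

namespace CompLatIdxLib

open Finset

variable {n : ℕ}

theorem card_quot (S T : Submodule ℤ (Fin n → ℤ)) :
    Nat.card (S ⧸ T.comap S.subtype) = T.toAddSubgroup.relIndex S.toAddSubgroup := rfl

abbrev Sum' (n : ℕ) : (Fin n → ℤ) →ₗ[ℤ] ℤ := ∑ i : Fin n, LinearMap.proj i

theorem Sum'_apply (x : Fin n → ℤ) : Sum' n x = ∑ i, x i := by simp [Sum']

theorem Sum'_surj (hn : 0 < n) : Function.Surjective (Sum' n).toAddMonoidHom := fun c =>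
  ⟨Pi.single ⟨0, hn⟩ c, by
    show Sum' n (Pi.single _ c) = c
    rw [Sum'_apply, Finset.sum_pi_single']
    simp⟩

theorem Sum'_Dh (δ x : Fin n → ℤ) : (Sum' n).toAddMonoidHom (Dh δ x) = ∑ i, δ i * x i := by
  show Sum' n (Dh δ x) = _
  rw [Sum'_apply]
  exact Finset.sum_congr rfl fun i _ => Dh_apply δ x i

theorem range_comp_le (δ : Fin n → ℤ) (A : Matrix (Fin n) (Fin n) ℤ)
    (hSDA : Sum' n ∘ₗ (Matrix.mulVecLin (Matrix.diagonal δ)) ∘ₗ (Matrix.mulVecLin A) = 0) :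
    (LinearMap.range (Matrix.mulVecLin A)).toAddSubgroup.map (Dh δ) ≤ (Sum' n).toAddMonoidHom.ker := by
  rintro _ ⟨_, ⟨z, rfl⟩, rfl⟩
  exact LinearMap.congr_fun hSDA z

theorem map_range_eq (δ : Fin n → ℤ) (f : (Fin n → ℤ) →ₗ[ℤ] (Fin n → ℤ)) :
    (LinearMap.range ((Matrix.mulVecLin (Matrix.diagonal δ)) ∘ₗ f)).toAddSubgroup =
      (LinearMap.range f).toAddSubgroup.map (Dh δ) := by
  rw [LinearMap.range_comp]
  rfl

/-- S14805. -/
theorem card_left (hn : 0 < n) (δ : Fin n → ℤ) (hδ : ∀ i, δ i ≠ 0) (A : Matrix (Fin n) (Fin n) ℤ)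
    (hSDA : Sum' n ∘ₗ (Matrix.mulVecLin (Matrix.diagonal δ)) ∘ₗ (Matrix.mulVecLin A) = 0) :
    (Nat.card (LinearMap.ker (Sum' n ∘ₗ (Matrix.mulVecLin (Matrix.diagonal δ))) ⧸
          (LinearMap.range (Matrix.mulVecLin A)).comap (LinearMap.ker (Sum' n ∘ₗ (Matrix.mulVecLin (Matrix.diagonal δ)))).subtype) : ℤ) * |∏ i, δ i| =
      (univ.gcd δ) * Nat.card (LinearMap.ker (Sum' n) ⧸ (LinearMap.range ((Matrix.mulVecLin (Matrix.diagonal δ)) ∘ₗ (Matrix.mulVecLin A))).comap (LinearMap.ker (Sum' n)).subtype) := by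
  rw [card_quot, card_quot, map_range_eq]
  exact formula δ hδ _ (Sum'_surj hn) (Sum'_Dh δ) _ (range_comp_le δ A hSDA)

theorem ker_eq_line (hn : 0 < n) (δ' : Fin n → ℤ) (hδ' : ∀ i, δ' i ≠ 0) (A : Matrix (Fin n) (Fin n) ℤ)
    (hA : A.rank = n - 1)
    (hADΔ : (Matrix.mulVecLin A) ∘ₗ (Matrix.mulVecLin (Matrix.diagonal δ')) ∘ₗ
        (LinearMap.pi fun _ : Fin n => (LinearMap.id : ℤ →ₗ[ℤ] ℤ)) = 0) :
    ∃ w : Fin n → ℤ, (∀ i, δ' i = univ.gcd δ' * w i) ∧
      (Matrix.mulVecLin A).toAddMonoidHom.ker = AddSubgroup.zmultiples w ∧ univ.gcd δ' ≠ 0 := by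
  have i₀ : Fin n := ⟨0, hn⟩
  have hg : univ.gcd δ' ≠ 0 := fun e => hδ' i₀ ((Finset.gcd_eq_zero_iff.1 e) i₀ (mem_univ _))
  choose w hw using fun i => Finset.gcd_dvd (f := δ') (mem_univ i)
  have hw1 : univ.gcd w = 1 := by
    have h : univ.gcd δ' = univ.gcd fun i => univ.gcd δ' * w i := Finset.gcd_congr rfl fun i _ => hw i
    rw [Finset.gcd_mul_left, Finset.normalize_gcd] at h
    exact (mul_eq_left₀ hg).1 h.symm
  have hwk : Matrix.mulVecLin A w = 0 := by
    have h := LinearMap.congr_fun hADΔ 1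
    have e : (Matrix.mulVecLin (Matrix.diagonal δ')) (fun _ : Fin n => (1 : ℤ)) = univ.gcd δ' • w := by
      funext i
      simp [Matrix.mulVec_diagonal, ← hw i]
    have h' : Matrix.mulVecLin A (univ.gcd δ' • w) = 0 := by rw [← e]; exact h
    rw [map_smul] at h'
    exact (smul_eq_zero.1 h').resolve_left hg
  refine ⟨w, hw, ?_, hg⟩
  have hrk : Module.finrank ℤ (LinearMap.ker (Matrix.mulVecLin A)) = 1 := by
    have h := Submodule.finrank_quotient_add_finrank (LinearMap.ker (Matrix.mulVecLin A))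
    rw [(Matrix.mulVecLin A).quotKerEquivRange.finrank_eq] at h
    rw [show Module.finrank ℤ (LinearMap.range (Matrix.mulVecLin A)) = n - 1 from hA, Module.finrank_pi,
      Fintype.card_fin] at h
    omega
  ext x
  refine ⟨fun hx => ?_, ?_⟩
  · by_contra hcon
    have hli : ¬ LinearIndependent ℤ ![(⟨w, hwk⟩ : LinearMap.ker (Matrix.mulVecLin A)), ⟨x, hx⟩] := fun h => by
      have := h.fintype_card_le_finrank
      rw [hrk] at this
      simp at this
    rw [LinearIndependent.pair_iff] at hli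
    push Not at hli
    obtain ⟨a, b, hab, hne⟩ := hli
    have hab' : ∀ i, a * w i + b * x i = 0 := fun i => by
      simpa using congrFun (congrArg Subtype.val hab) i
    have hw0 : w i₀ ≠ 0 := fun e => hδ' i₀ (by rw [hw, e, mul_zero])
    have hb : b ≠ 0 := fun e => by
      refine hne ?_ e
      have := hab' i₀
      rw [e, zero_mul, add_zero] at this
      exact (mul_eq_zero.1 this).resolve_right hw0
    obtain ⟨y, hy⟩ := exists_sum_eq_gcd w
    rw [hw1] at hy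
    refine hcon (AddSubgroup.mem_zmultiples_iff.2 ⟨∑ i, x i * y i, funext fun j => ?_⟩)
    have e1 : (∑ i, x i * y i) * b = -a := by
      calc (∑ i, x i * y i) * b = -a * ∑ i, w i * y i := by
            rw [Finset.sum_mul, Finset.mul_sum]
            exact Finset.sum_congr rfl fun i _ => by linear_combination y i * hab' i
        _ = -a := by rw [hy, mul_one]
    simp only [Pi.smul_apply, smul_eq_mul]
    exact mul_right_cancel₀ hb (by linear_combination w j * e1 - hab' j)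
  · rintro ⟨c, rfl⟩
    show Matrix.mulVecLin A (c • w) = 0
    rw [map_smul, hwk, smul_zero]

/-- S14806. -/
theorem card_both (hn : 0 < n) (δ δ' : Fin n → ℤ) (hδ : ∀ i, δ i ≠ 0) (hδ' : ∀ i, δ' i ≠ 0)
    (A : Matrix (Fin n) (Fin n) ℤ) (hA : A.rank = n - 1)
    (hSDA : Sum' n ∘ₗ (Matrix.mulVecLin (Matrix.diagonal δ)) ∘ₗ (Matrix.mulVecLin A) = 0)
    (hADΔ : (Matrix.mulVecLin A) ∘ₗ (Matrix.mulVecLin (Matrix.diagonal δ')) ∘ₗ
        (LinearMap.pi fun _ : Fin n => (LinearMap.id : ℤ →ₗ[ℤ] ℤ)) = 0) :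
    (Nat.card (LinearMap.ker (Sum' n ∘ₗ (Matrix.mulVecLin (Matrix.diagonal δ))) ⧸
          (LinearMap.range (Matrix.mulVecLin A)).comap (LinearMap.ker (Sum' n ∘ₗ (Matrix.mulVecLin (Matrix.diagonal δ)))).subtype) : ℤ) * |∏ i, δ i| * |∏ i, δ' i| =
      (univ.gcd δ) * (univ.gcd δ') * Nat.card (LinearMap.ker (Sum' n) ⧸
          (LinearMap.range ((Matrix.mulVecLin (Matrix.diagonal δ)) ∘ₗ (Matrix.mulVecLin A) ∘ₗ (Matrix.mulVecLin (Matrix.diagonal δ')))).comap (LinearMap.ker (Sum' n)).subtype) := by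
  obtain ⟨w, hw, hker, hg⟩ := ker_eq_line hn δ' hδ' A hA hADΔ
  rw [card_left hn δ hδ A hSDA, card_quot, card_quot, map_range_eq, map_range_eq]
  have h2 := formula_right δ' _ hg w hw hδ' ⟨0, hn⟩ _ hker
  have e : (LinearMap.range (Matrix.mulVecLin A ∘ₗ Matrix.mulVecLin (Matrix.diagonal δ'))).toAddSubgroup =
      (Dh δ').range.map (Matrix.mulVecLin A).toAddMonoidHom := by
    rw [LinearMap.range_comp]
    rfl
  have hle : (Dh δ').range.map (Matrix.mulVecLin A).toAddMonoidHom ≤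
      (LinearMap.range (Matrix.mulVecLin A)).toAddSubgroup := by
    rintro _ ⟨z, -, rfl⟩
    exact ⟨z, rfl⟩
  have e3 : (LinearMap.range (Matrix.mulVecLin A)).toAddSubgroup = (Matrix.mulVecLin A).toAddMonoidHom.range := rfl
  rw [e, show (LinearMap.ker (Sum' n)).toAddSubgroup = (Sum' n).toAddMonoidHom.ker from rfl,
    ← AddSubgroup.relIndex_mul_relIndex _ _ _ (AddSubgroup.map_mono hle) (range_comp_le δ A hSDA),
    AddSubgroup.relIndex_map_map_of_injective _ _ (Dh_injective δ hδ), e3, Nat.cast_mul,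
    ← h2, abs_of_nonneg (Int.nonneg_of_normalize_eq_self Finset.normalize_gcd)]
  ring

end CompLatIdxLib
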